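import Groth.Agent.SpSeqLib.Degenerate
import Mathlib

universe v u
open CategoryTheory CategoryTheory.Limits

namespace Groth.Agent.SpSeqDimLib

variable {K : Type u} [Field K]

lemma homology_bound (S : ShortComplex (ModuleCat.{v} K)) [Module.Finite K S.X₂] :
    Module.Finite K S.homology ∧ Module.finrank K S.homology ≤ Module.finrank K S.X₂ ∧
      (Module.finrank K S.X₂ ≤ Module.finrank K S.homology → S.f = 0 ∧ S.g = 0) := by
  let e := S.moduleCatHomologyIso.toLinearEquiv
  haveI : Module.Finite K (LinearMap.ker S.g.hom) := inferInstance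
  have h1 := Submodule.finrank_quotient_add_finrank (LinearMap.range S.moduleCatToCycles)
  have h2 := Submodule.finrank_le (LinearMap.ker S.g.hom)
  have h3 : Module.finrank K S.homology =
      Module.finrank K (LinearMap.ker S.g.hom ⧸ LinearMap.range S.moduleCatToCycles) :=
    e.finrank_eq
  refine ⟨Module.Finite.equiv (show (LinearMap.ker S.g.hom ⧸ LinearMap.range S.moduleCatToCycles)
    ≃ₗ[K] S.homology from e.symm), by omega, fun h => ?_⟩
  have hg : LinearMap.ker S.g.hom = ⊤ := Submodule.eq_top_of_finrank_eq (by omega)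
  have hf : LinearMap.range S.moduleCatToCycles = ⊥ := by
    rw [← Submodule.finrank_eq_zero (R := K)]; omega
  rw [LinearMap.range_eq_bot] at hf
  rw [LinearMap.ker_eq_top] at hg
  refine ⟨?_, ModuleCat.hom_ext hg⟩
  ext x
  exact congrArg Subtype.val (LinearMap.congr_fun hf x)

lemma finrank_cokernel {M N : ModuleCat.{v} K} (f : M ⟶ N) [Mono f] [Module.Finite K N] :
    Module.finrank K (cokernel f : ModuleCat.{v} K) + Module.finrank K M =
      Module.finrank K N := by
  have hinj : Function.Injective f.hom := (ModuleCat.mono_iff_injective f).1 inferInstance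
  rw [(ModuleCat.cokernelIsoRangeQuotient f).toLinearEquiv.finrank_eq,
    ← LinearMap.finrank_range_of_inj hinj]
  exact Submodule.finrank_quotient_add_finrank _

variable {r₀ : ℤ} (E : CohomologicalSpectralSequence (ModuleCat.{v} K) r₀)

lemma page_bound (pq : ℤ × ℤ) (r : ℤ) (hr : r₀ ≤ r)
    [Module.Finite K ((E.page r hr).X pq)] :
    Module.Finite K ((E.page (r + 1) (by omega)).X pq) ∧
      Module.finrank K ((E.page (r + 1) (by omega)).X pq) ≤
        Module.finrank K ((E.page r hr).X pq) ∧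
      (Module.finrank K ((E.page r hr).X pq) ≤
          Module.finrank K ((E.page (r + 1) (by omega)).X pq) →
        (E.page r hr).d (pq - (r, 1 - r)) pq = 0 ∧ (E.page r hr).d pq (pq + (r, 1 - r)) = 0) := by
  haveI : Module.Finite K ((E.page r hr).sc pq).X₂ := ‹_›
  obtain ⟨h1, h2, h3⟩ := homology_bound ((E.page r hr).sc pq)
  let e : ((E.page r hr).homology pq : ModuleCat.{v} K) ≃ₗ[K] (E.page (r + 1) (by omega)).X pq :=
    (E.iso r (r + 1) pq rfl hr).toLinearEquiv
  haveI : Module.Finite K ((E.page r hr).homology pq : ModuleCat.{v} K) := h1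
  refine ⟨Module.Finite.equiv e, e.finrank_eq ▸ h2, fun h => ?_⟩
  rw [← e.finrank_eq] at h
  obtain ⟨hf, hg⟩ := h3 h
  refine ⟨?_, ?_⟩
  · have hp : (ComplexShape.up' (⟨r, 1 - r⟩ : ℤ × ℤ)).prev pq = pq - (r, 1 - r) :=
      ComplexShape.prev_eq' _ (by simp)
    rw [← hp]
    exact hf
  · have hn : (ComplexShape.up' (⟨r, 1 - r⟩ : ℤ × ℤ)).next pq = pq + (r, 1 - r) :=
      ComplexShape.next_eq' _ (by simp)
    rw [← hn]
    exact hg

lemma page_mono (pq : ℤ × ℤ) (r : ℤ) (hr : r₀ ≤ r) (h : Module.Finite K ((E.page r hr).X pq))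
    (k : ℤ) (hk : r ≤ k) :
    Module.Finite K ((E.page k (hr.trans hk)).X pq) ∧
      Module.finrank K ((E.page k (hr.trans hk)).X pq) ≤
        Module.finrank K ((E.page r hr).X pq) := by
  induction k, hk using Int.leInduction with
  | base => exact ⟨h, le_rfl⟩
  | succ k hk ih =>
    haveI := ih.1
    obtain ⟨h1, h2, -⟩ := page_bound E pq k (hr.trans hk)
    exact ⟨h1, h2.trans ih.2⟩

lemma stationary_of_le (pq : ℤ × ℤ) (r : ℤ) (hr : r₀ ≤ r)
    (h : ∀ pq, Module.Finite K ((E.page r hr).X pq))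
    (s : ℤ) (hst : SpSeq.StationaryAt E pq s)
    (hle : Module.finrank K ((E.page r hr).X pq) ≤
      Module.finrank K ((E.page s hst.1).X pq)) :
    SpSeq.StationaryAt E pq r := by
  refine ⟨hr, fun k h₀ hk => ?_⟩
  rcases le_or_gt s k with hsk | hks
  · exact hst.2 k h₀ hsk
  · haveI := (page_mono E pq r hr (h pq) k hk).1
    obtain ⟨h1, h2, h3⟩ := page_bound E pq k h₀
    refine h3 (((page_mono E pq r hr (h pq) k hk).2.trans hle).trans ?_)
    exact (page_mono E pq (k + 1) (by omega) h1 s (by omega)).2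

theorem stationary_line {r₀ : ℤ}
    (E : CohomologicalSpectralSequence (ModuleCat.{v} K) r₀) (H : ℤ → ModuleCat.{v} K)
    (a : SpSeq.Abutment E H) (n : ℤ) (hfin : a.IsFinite n)
    (hquad : ∀ pq : ℤ × ℤ, pq.1 < 0 ∨ pq.2 < 0 → IsZero ((E.page r₀ le_rfl).X pq))
    (hfd : ∀ pq : ℤ × ℤ, Module.Finite K ((E.page r₀ le_rfl).X pq))
    (hH : Module.Finite K (H n))
    (hsum : ∑ s ∈ Finset.Icc (0 : ℤ) n, Module.finrank K ((E.page r₀ le_rfl).X (s, n - s)) =
      Module.finrank K (H n)) :
    ∀ s : ℤ, SpSeq.StationaryAt E (s, n - s) r₀ := by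
  classical
  let d₀ : ℤ → ℕ := fun p => Module.finrank K ((E.page r₀ le_rfl).X (p, n - p))
  let d₁ : ℤ → ℕ := fun p =>
    Module.finrank K ((E.page (a.rk (p, n - p)) (a.stat (p, n - p)).1).X (p, n - p))
  have hle : ∀ p, d₁ p ≤ d₀ p := fun p =>
    (page_mono E (p, n - p) r₀ le_rfl (hfd _) _ (a.stat (p, n - p)).1).2
  have hd0 : ∀ p, ¬ (0 ≤ p ∧ p ≤ n) → d₀ p = 0 := by
    intro p hp
    have hz := hquad (p, n - p) (by simp; omega)
    haveI := ModuleCat.subsingleton_of_isZero hz
    exact Module.finrank_zero_of_subsingleton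
  haveI hF : ∀ p, Module.Finite K ((a.fil n p : ModuleCat.{v} K)) := fun p =>
    Module.Finite.of_injective (a.fil n p).arrow.hom
      ((ModuleCat.mono_iff_injective _).1 inferInstance)
  let F : ℤ → ℕ := fun p => Module.finrank K (a.fil n p : ModuleCat.{v} K)
  have hstep : ∀ p, d₁ p + F (p + 1) = F p := by
    intro p
    have e := (a.β (p, n - p)).toLinearEquiv.finrank_eq
    have h' : ∀ m, m = n → Module.finrank K (SpSeq.grPiece (a.fil m) (a.anti m) p : ModuleCat.{v} K) + F (p + 1)
        = F p := by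
      rintro m rfl
      exact finrank_cokernel ((a.fil m (p + 1)).ofLE (a.fil m p) (a.anti m (Int.le_add_one le_rfl)))
    simp only [d₁]
    rw [e]
    exact h' _ (by simp)
  obtain ⟨⟨A, hA⟩, B, hB⟩ := hfin
  change a.fil n A = ⊤ at hA
  change a.fil n B = ⊥ at hB
  have hA' : ∀ p ≤ A, F p = Module.finrank K (H n) := by
    intro p hp
    have : a.fil n p = ⊤ := top_le_iff.1 (hA ▸ a.anti n hp)
    simp only [F]
    rw [this]
    exact (asIso (⊤ : Subobject (H n)).arrow).toLinearEquiv.finrank_eq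
  have hB' : ∀ p ≥ B, F p = 0 := by
    intro p hp
    have : a.fil n p = ⊥ := le_bot_iff.1 (hB ▸ a.anti n hp)
    simp only [F]
    rw [this]
    haveI := ModuleCat.subsingleton_of_isZero
      ((isZero_zero (ModuleCat.{v} K)).of_iso (Subobject.botCoeIsoZero (B := H n)))
    exact Module.finrank_zero_of_subsingleton
  have htel : ∀ (L : ℤ) (k : ℕ),
      (∑ i ∈ Finset.range k, d₁ (L + i)) + F (L + k) = F L := by
    intro L k
    induction k with
    | zero => simp
    | succ k ih =>
      rw [Finset.sum_range_succ, add_assoc, Nat.cast_succ, ← add_assoc L, hstep, ih]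
  let L := min A 0
  let k := (max B (n + 1) - L).toNat
  have h1 := htel L k
  rw [hB' (L + k) (by omega), add_zero, hA' L (by omega), ← hsum] at h1
  have h2 : ∑ i ∈ Finset.range k, d₀ (L + i) = ∑ s ∈ Finset.Icc (0 : ℤ) n, d₀ s := by
    rw [← Finset.sum_filter_add_sum_filter_not (Finset.range k) (fun i : ℕ => 0 ≤ L + i ∧ L + i ≤ n),
      Finset.sum_eq_zero (s := Finset.filter (fun i : ℕ => ¬ _) _)
        (fun i hi => hd0 _ (Finset.mem_filter.1 hi).2), add_zero]
    refine Finset.sum_nbij' (fun i => L + i) (fun s => (s - L).toNat) ?_ ?_ ?_ ?_ ?_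
    · intro i hi; simp at hi ⊢; omega
    · intro s hs; simp at hs ⊢; omega
    · intro i hi; simp
    · intro s hs; simp at hs ⊢; omega
    · intro i hi; rfl
  intro s
  refine stationary_of_le E (s, n - s) r₀ le_rfl hfd _ (a.stat _) ?_
  change d₀ s ≤ d₁ s
  by_contra hlt
  push Not at hlt
  have hs : 0 ≤ s ∧ s ≤ n := by
    by_contra h
    rw [hd0 s h] at hlt; omega
  have : ∑ i ∈ Finset.range k, d₁ (L + i) < ∑ i ∈ Finset.range k, d₀ (L + i) :=
    Finset.sum_lt_sum (fun i _ => hle _) ⟨(s - L).toNat, by simp; omega, by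
      rwa [show L + ((s - L).toNat : ℤ) = s by omega]⟩
  rw [h1, h2] at this
  exact lt_irrefl _ this

end Groth.Agent.SpSeqDimLib
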