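import Groth.Agent.SpSeqLib.Degenerate
import Mathlib

universe v u
open CategoryTheory CategoryTheory.Limits

namespace Groth.Agent.SpSeqDimLib

variable {C : Type u} [Category.{v} C] [Abelian C]

lemma mono_homologyMap {S T : ShortComplex C} (φ : S ⟶ T) (hS : S.f = 0) (hT : T.f = 0)
    [Mono φ.τ₂] : Mono (ShortComplex.homologyMap φ) := by
  haveI := S.isIso_homologyπ hS
  haveI := T.isIso_homologyπ hT
  haveI : Mono (ShortComplex.cyclesMap φ) := by
    haveI : Mono (ShortComplex.cyclesMap φ ≫ T.iCycles) := by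
      rw [ShortComplex.cyclesMap_i]; infer_instance
    exact mono_of_mono _ T.iCycles
  have h : ShortComplex.homologyMap φ =
      inv S.homologyπ ≫ ShortComplex.cyclesMap φ ≫ T.homologyπ := by
    rw [IsIso.eq_inv_comp, ShortComplex.homologyπ_naturality]
  rw [h]; infer_instance

theorem degenerates_two
    (E E' : E₂CohomologicalSpectralSequence C) (φ : E ⟶ E')
    (hE : ∀ pq : ℤ × ℤ, pq.1 < 0 ∨ pq.2 < 0 → IsZero ((E.page 2 le_rfl).X pq))
    (hd' : ∀ (r : ℤ) (hr : 2 ≤ r) (pq : ℤ × ℤ), pq.1 ≠ 0 →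
      (E'.page r hr).d pq (pq + (r, 1 - r)) = 0)
    (hφd : ∀ (r : ℤ) (hr : 2 ≤ r) (pq : ℤ × ℤ),
      (φ.hom r hr).f pq ≫ (E'.page r hr).d pq (pq + (r, 1 - r)) = 0)
    (hmono : ∀ pq : ℤ × ℤ, Mono ((φ.hom 2 le_rfl).f pq)) :
    SpSeq.Degenerates E 2 := by
  have key : ∀ (r : ℤ) (hr : 2 ≤ r),
      (∀ b : ℤ × ℤ, r ≤ b.1 → Mono ((φ.hom r hr).f b)) →
      ∀ a b, (E.page r hr).d a b = 0 := by
    intro r hr hm a b
    by_cases hab : (ComplexShape.up' (⟨r, 1 - r⟩ : ℤ × ℤ)).Rel a b
    · obtain rfl : b = a + (r, 1 - r) := hab.symm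
      by_cases ha : a.1 < 0
      · exact (SpSeqLib.isZero_page_of_le E 2 le_rfl a (hE a (Or.inl ha)) r hr).eq_of_src _ _
      · haveI := hm (a + (r, 1 - r)) (by simp; omega)
        rw [← cancel_mono ((φ.hom r hr).f (a + (r, 1 - r))), zero_comp,
          ← (φ.hom r hr).comm, hφd]
    · exact (E.page r hr).shape a b hab
  have inv : ∀ (r : ℤ) (hr : 2 ≤ r), ∀ b : ℤ × ℤ, r ≤ b.1 → Mono ((φ.hom r hr).f b) := by
    intro r hr
    induction r, hr using Int.leInduction with
    | base => exact fun b _ => hmono b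
    | succ r hr ih =>
      intro b hb
      haveI : Mono ((HomologicalComplex.shortComplexFunctor C _ b).map (φ.hom r hr)).τ₂ :=
        ih b (by omega)
      haveI : Mono (HomologicalComplex.homologyMap (φ.hom r hr) b) := by
        refine mono_homologyMap _ ?_ ?_
        · exact key r hr ih _ _
        · change (E'.page r hr).d _ b = 0
          rw [show (ComplexShape.up' (⟨r, 1 - r⟩ : ℤ × ℤ)).prev b = b - (r, 1 - r) from
            ComplexShape.prev_eq' _ (by simp)]
          have h1 : (b - (r, 1 - r)).1 ≠ 0 := by simp; omega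
          have h2 := hd' r hr (b - (r, 1 - r)) h1
          rwa [show b - (r, 1 - r) + (r, 1 - r) = b by ext <;> simp] at h2
      have h := φ.comm r (r + 1) b rfl hr
      haveI : Mono ((E.iso r (r + 1) b rfl hr).hom ≫ (φ.hom (r + 1) (by omega)).f b) := by
        rw [← h]; infer_instance
      rw [← Iso.inv_hom_id_assoc (E.iso r (r + 1) b rfl hr) ((φ.hom (r + 1) (by omega)).f b)]
      infer_instance
  exact ⟨le_rfl, fun r h₀ _ a b => key r h₀ (inv r h₀) a b⟩

end Groth.Agent.SpSeqDimLib
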